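import Mathlib
import Cfsg.Agent.ABG.CombSD
import Cfsg.Agent.ABG.CombWr

/-! The shapes of the columns of the principal block (semidihedral and wreathed case). -/

set_option autoImplicit false
set_option linter.unusedSectionVars false

namespace Cfsg.Agent.ABG

open Cfsg.Agent.Block.DihBlock

variable {I : Type*} [DecidableEq I] {S : Finset I} {o : I}

theorem pt_neg (a : I) (δ : ℤ) (x : I) : pt a (-δ) x = -pt a δ x := by
  unfold pt; split_ifs <;> simp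

theorem eq_sum_pt (u : I → ℤ) {x : I} (hx : x ∈ S) :
    u x = pt o (u o) x + ∑ a ∈ supp S o u, pt a (u a) x := by
  simp only [pt, Finset.sum_ite_eq, mem_supp]
  by_cases h : x = o
  · simp [h]
  · by_cases h0 : u x = 0 <;> simp [h, hx, h0]

theorem sd_shape {Θ : Type*} [Fintype Θ] [DecidableEq Θ] (ho : o ∈ S) {t₀ lam : Θ} (hl : lam ≠ t₀)
    {v : Θ → I → ℤ} {sg : Θ → ℤ} {d F₁ F₂ zv : I → ℤ} {Q : ℤ}
    (hs : ∑ θ, sg θ = 0) (hs0 : sg t₀ = 1) (hsl : sg lam = 1)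
    (hv0 : ∀ x, v t₀ x = 0) (hv : ∀ θ, θ ≠ t₀ → v θ o = 1) (hdo : d o = 1) (hd : ∀ x, 0 < d x)
    (hd1 : ∀ x ∈ S, x ≠ o → d x ≠ 1) (hzo : zv o = 1)
    (hvd : ∀ θ, ∑ x ∈ S, v θ x * d x = 0)
    (hι : ∃ j₁ j₂ j₃ : {θ // θ ≠ t₀ ∧ θ ≠ lam}, v j₁ ≠ v j₂ ∧ v j₁ ≠ v j₃ ∧ v j₂ ≠ v j₃)
    (hv3 : ∀ j : {θ // θ ≠ t₀ ∧ θ ≠ lam}, ∑ x ∈ S, v j x * v j x = 3)
    (hv2 : ∀ j k : {θ // θ ≠ t₀ ∧ θ ≠ lam}, v j = v k ∨ ∑ x ∈ S, v j x * v k x = 2)
    (hww : ∑ x ∈ S, v lam x * v lam x = 4)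
    (hvw : ∀ j : {θ // θ ≠ t₀ ∧ θ ≠ lam}, ∑ x ∈ S, v j x * v lam x = 2)
    (hFo : F₂ o = 1) (hFF : ∑ x ∈ S, F₂ x * F₂ x = 8) (hFd : ∑ x ∈ S, F₂ x * d x = 0)
    (hvF : ∀ θ, ∑ x ∈ S, v θ x * F₂ x = 0) (hpar : ∀ x ∈ S, Even (v lam x + F₂ x))
    (hF₁ : ∀ x ∈ S, F₁ x = -∑ θ, v θ x * sg θ)
    (hvF₁ : ∀ θ, ∑ x ∈ S, v θ x * F₁ x = 2 * (1 - sg θ))
    (hz : ∀ x ∈ S, 2 * zv x = (Q + 1) * F₁ x + (1 - Q) * F₂ x)
    (hP1 : ∑ x ∈ S, (zv x : ℚ) ^ 2 / d x * v lam x = 0) :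
    ∃ (a p q r : I) (b : {θ // θ ≠ t₀ ∧ θ ≠ lam} → I) (δ₁ δ₂ δ₃ δ₄ : ℤ),
      a ∈ S ∧ p ∈ S ∧ q ∈ S ∧ r ∈ S ∧ (∀ j, b j ∈ S) ∧
      (δ₁ = 1 ∨ δ₁ = -1) ∧ (δ₂ = 1 ∨ δ₂ = -1) ∧ (δ₃ = 1 ∨ δ₃ = -1) ∧ (δ₄ = 1 ∨ δ₄ = -1) ∧
      Function.Injective ![o, a, p, q, r] ∧ (∀ i j, ![o, a, p, q, r] i ≠ b j) ∧
      (∀ j k, b j = b k → v j = v k) ∧
      (∀ j : {θ // θ ≠ t₀ ∧ θ ≠ lam}, ∀ x ∈ S, v j x = pt o 1 x + pt a δ₁ x - pt (b j) δ₁ x) ∧
      (∀ x ∈ S, v lam x + F₂ x = 2 * (pt o 1 x - pt q δ₃ x + pt r δ₄ x)) ∧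
      (∀ x ∈ S, v lam x - F₂ x = 2 * (pt a δ₁ x - pt p δ₂ x - pt r δ₄ x)) ∧
      δ₁ * zv a = Q ∧ δ₂ * zv p = 1 ∧ δ₃ * zv q = Q ∧ δ₄ * zv r = 1 - Q ∧
      (∀ j, δ₁ * zv (b j) = (Q + 1) * sg j) ∧ δ₃ * d q * (δ₁ * d a) = Q ^ 2 * (δ₂ * d p) := by
  obtain ⟨a, p, q, b, hw, ap, aq, pq, hb, hbi, hwb, hva, hvb, hw1⟩ :=
    comb' (v := fun j : {θ // θ ≠ t₀ ∧ θ ≠ lam} => v j) ho hι (fun j => hv j j.2.1) (hv lam hl)
      hdo hd hv3 hv2 hww hvw (fun j => hvd j) (hvd lam)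
  obtain ⟨e, he⟩ : ∃ e : I → ℤ, ∀ x ∈ S, v lam x + F₂ x = 2 * e x :=
    ⟨fun x => (v lam x + F₂ x) / 2, fun x hx => by
      obtain ⟨m, hm⟩ := hpar x hx
      simp only
      omega⟩
  have hef : ∀ f : I → ℤ, 2 * ∑ x ∈ S, f x * e x =
      ∑ x ∈ S, f x * v lam x + ∑ x ∈ S, f x * F₂ x := fun f => by
    rw [Finset.mul_sum, ← Finset.sum_add_distrib]
    exact Finset.sum_congr rfl fun x hx => by linear_combination (-f x) * he x hx
  have heo : e o = 1 := by have := he o ho; rw [hv lam hl, hFo] at this; omega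
  have hew : ∑ x ∈ S, e x * v lam x = 2 := by
    have := hef (v lam)
    rw [hww, hvF] at this
    simp only [mul_comm (e _)]; omega
  have hee : ∑ x ∈ S, e x * e x = 3 := by
    have h1 := hef e
    have h2 := hef F₂
    have h3 := hvF lam
    simp only [mul_comm (F₂ _) (v lam _), mul_comm (F₂ _) (e _)] at h2
    omega
  obtain ⟨q', r, hse, qr, hq', heq, hwr⟩ := exists_pair ho heo (hv lam hl) hee hww hew
  have he1 := (supp_spec ho heo (n := 2) (by norm_num) (by simpa using hee)).2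
  have mq' : q' ∈ supp S o e := by simp [hse]
  have mr : r ∈ supp S o e := by simp [hse]
  have ma : a ∈ supp S o (v lam) := by simp [hw]
  have mb : ∀ j : {θ // θ ≠ t₀ ∧ θ ≠ lam}, b j ∈ supp S o (v j) := fun j => by simp [hb]
  have hab : ∀ j, a ≠ b j := fun j h => (mem_supp.1 ma).2.2 (h ▸ hwb j)
  have hsum : ∀ (j : {θ // θ ≠ t₀ ∧ θ ≠ lam}) (f : I → ℤ),
      ∑ x ∈ S, v j x * f x = f o + v lam a * f a - v lam a * f (b j) := fun j f => by
    rw [sum_eq_supp ho, hb, Finset.sum_pair (hab j), hv j j.2.1, hva, hvb]; ring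
  have hδ₁ := hw1 a ma
  have hve : ∀ j, e a = e (b j) := fun j => by
    have h1 := hef (v j)
    rw [hvw, hvF, hsum, heo] at h1
    rcases hδ₁ with h | h <;> rw [h] at h1 <;> omega
  have hea : e a = 0 := by
    by_contra h0
    obtain ⟨j₁, j₂, -, n12, -⟩ := hι
    have : ∀ j, b j = r := fun j => by
      have h1 : b j ∈ supp S o e := mem_supp.2 ⟨(mem_supp.1 (mb j)).1, (mem_supp.1 (mb j)).2.1,
        by rwa [← hve]⟩
      rw [hse, Finset.mem_insert, Finset.mem_singleton] at h1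
      exact h1.resolve_left fun h => (mem_supp.1 hq').2.2 (h ▸ hwb j)
    exact n12 (hbi _ _ ((this _).trans (this _).symm))
  have aq' : a ≠ q' := fun h => (mem_supp.1 mq').2.2 (h ▸ hea)
  obtain ⟨p', hw', ap', pq'⟩ : ∃ p', supp S o (v lam) = {a, p', q'} ∧ a ≠ p' ∧ p' ≠ q' := by
    rw [hw] at hq'
    simp only [Finset.mem_insert, Finset.mem_singleton] at hq'
    rcases hq' with h | h | h
    · exact absurd h.symm aq'
    · exact ⟨q, by rw [hw, h, Finset.pair_comm], aq, h ▸ pq.symm⟩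
    · exact ⟨p, by rw [hw, h], ap, h ▸ pq⟩
  clear hw ap aq pq
  have mp : p' ∈ supp S o (v lam) := by simp [hw']
  obtain ⟨ao, aS, -⟩ := mem_supp.1 ma
  obtain ⟨po, pS, p0⟩ := mem_supp.1 mp
  obtain ⟨qo, qS, q0⟩ := mem_supp.1 hq'
  obtain ⟨ro, rS, r0⟩ := mem_supp.1 mr
  have hδ₂ := hw1 p' mp
  have hδ₃ := hw1 q' hq'
  have hδ₄ := he1 r mr
  have hep : e p' = 0 := eq_zero_of_notMem_supp pS po (by
    rw [hse, Finset.mem_insert, Finset.mem_singleton]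
    rintro (h | h)
    · exact pq' h
    · exact p0 (h ▸ hwr))
  have hgen : ∀ x ∈ S, x ≠ o → x ≠ a → (∀ j, x ≠ b j) → F₁ x = -v lam x := fun x hx h1 h2 h3 => by
    rw [hF₁ x hx, Finset.sum_eq_single lam, hsl, mul_one]
    · intro θ _ hθ
      by_cases h0 : θ = t₀
      · rw [h0, hv0, zero_mul]
      · rw [eq_zero_of_notMem_supp (u := v θ) hx h1 (by
          rw [hb ⟨θ, h0, hθ⟩]; simp [h2, h3]), zero_mul]
    · simp
  have hvθ : ∀ θ, θ ≠ t₀ → v θ a = v lam a := fun θ h0 => by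
    by_cases h : θ = lam
    · rw [h]
    · exact hva ⟨θ, h0, h⟩
  have F1a : F₁ a = v lam a := by
    rw [hF₁ a aS, ← Finset.add_sum_erase _ _ (Finset.mem_univ t₀), hv0,
      Finset.sum_congr rfl fun θ hθ => by rw [hvθ θ (Finset.mem_erase.1 hθ).1], ← Finset.mul_sum]
    rw [← Finset.add_sum_erase _ _ (Finset.mem_univ t₀), hs0] at hs
    linear_combination (-v lam a) * hs
  have F1o : F₁ o = 1 := by
    rw [hF₁ o ho, ← Finset.add_sum_erase _ _ (Finset.mem_univ t₀), hv0,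
      Finset.sum_congr rfl fun θ hθ => by rw [hv θ (Finset.mem_erase.1 hθ).1, one_mul]]
    rw [← Finset.add_sum_erase _ _ (Finset.mem_univ t₀), hs0] at hs
    linear_combination -hs
  have F1p := hgen p' pS po ap'.symm fun j h => p0 (h ▸ hwb j)
  have F1q := hgen q' qS qo aq'.symm fun j h => q0 (h ▸ hwb j)
  have F1r := hgen r rS ro (fun h => r0 (h ▸ hea)) fun j h => r0 (by rw [h, ← hve, hea])
  have za := hz a aS
  have zp := hz p' pS
  have zq := hz q' qS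
  have zr := hz r rS
  have ea := he a aS
  have ep := he p' pS
  have eq := he q' qS
  have er := he r rS
  rw [hea] at ea
  rw [hep] at ep
  rw [heq] at eq
  rw [hwr] at er F1r
  have Fa : F₂ a = -v lam a := by omega
  have Fp : F₂ p' = -v lam p' := by omega
  have Fq : F₂ q' = v lam q' := by omega
  have Fr : F₂ r = 2 * e r := by omega
  rw [F1a, Fa] at za
  rw [F1p, Fp] at zp
  rw [F1q, Fq] at zq
  rw [F1r, Fr] at zr
  have za' : zv a = v lam a * Q := by linarith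
  have zp' : zv p' = -v lam p' * 1 := by linarith
  have zq' : zv q' = -v lam q' * Q := by linarith
  have zr' : zv r = e r * (1 - Q) := by linarith
  have d1 := hvd lam
  rw [sum_eq_supp ho, hw', Finset.sum_insert (by simp [ap', aq']), Finset.sum_pair pq', hv lam hl,
    hdo] at d1
  have P1 := hP1
  rw [sum_eq_supp_rat ho, hw', Finset.sum_insert (by simp [ap', aq']), Finset.sum_pair pq',
    hv lam hl, hdo, hzo, za', zp', zq'] at P1
  have da := hd a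
  have dp := hd p'
  have dq := hd q'
  have dp1 := hd1 p' pS po
  have y0 : ((v lam a * d a : ℤ) : ℚ) ≠ 0 := by
    rw [Int.cast_ne_zero]; rcases hδ₁ with h | h <;> rw [h] <;> omega
  have x2 : ((-v lam p' * d p' : ℤ) : ℚ) ≠ 0 := by
    rw [Int.cast_ne_zero]; rcases hδ₂ with h | h <;> rw [h] <;> omega
  have x3 : ((-v lam q' * d q' : ℤ) : ℚ) ≠ 0 := by
    rw [Int.cast_ne_zero]; rcases hδ₃ with h | h <;> rw [h] <;> omega
  have hsum1 : 1 + v lam a * d a = -v lam p' * d p' + -v lam q' * d q' := by linarith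
  rw [sgn_div hδ₁, sgn_div' hδ₂, sgn_div' hδ₃] at P1
  have key : -v lam q' * d q' * (v lam a * d a) = Q ^ 2 * (-v lam p' * d p') := by
    have h1 : (-v lam p' * d p' - 1) * (-v lam q' * d q' * (v lam a * d a) -
        Q ^ 2 * (-v lam p' * d p')) = 0 := by
      have := sd_factor (Q := Q) y0 x2 x3 (by exact_mod_cast hsum1) (by
        push_cast at P1 ⊢; linear_combination P1)
      exact_mod_cast this
    refine sub_eq_zero.1 ((mul_eq_zero.1 h1).resolve_left ?_)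
    rcases hδ₂ with h | h <;> rw [h] <;> omega
  have ar : a ≠ r := fun h => r0 (h ▸ hea)
  have pr : p' ≠ r := fun h => p0 (h ▸ hwr)
  have sq : ∀ {δ : ℤ}, δ = 1 ∨ δ = -1 → δ * δ = 1 := by rintro _ (rfl | rfl) <;> rfl
  have E1 : ∀ x ∈ S, e x = pt o 1 x - pt q' (-v lam q') x + pt r (e r) x := fun x hx => by
    rw [eq_sum_pt (o := o) e hx, hse, Finset.sum_pair qr, heo, heq, pt_neg]; ring
  have E2 : ∀ x ∈ S, v lam x = pt o 1 x + pt a (v lam a) x - pt p' (-v lam p') x -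
      pt q' (-v lam q') x := fun x hx => by
    rw [eq_sum_pt (o := o) (v lam) hx, hw', Finset.sum_insert (by simp [ap', aq']),
      Finset.sum_pair pq', hv lam hl, pt_neg, pt_neg]; ring
  refine ⟨a, p', q', r, b, v lam a, -v lam p', -v lam q', e r, aS, pS, qS, rS,
    fun j => (mem_supp.1 (mb j)).2.1, hδ₁, by omega, by omega, hδ₄, ?_, fun i j => ?_, hbi,
    fun j x hx => ?_, fun x hx => by rw [he x hx, E1 x hx],
    fun x hx => by linear_combination 2 * E2 x hx - 2 * E1 x hx - he x hx,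
    by rw [za', ← mul_assoc, sq hδ₁, one_mul], by rw [zp', mul_one, neg_mul_neg, sq hδ₂],
    by rw [zq', ← mul_assoc, neg_mul_neg, sq hδ₃, one_mul],
    by rw [zr', ← mul_assoc, sq hδ₄, one_mul], fun j => ?_, key⟩
  · rw [← List.nodup_ofFn]
    simp [ao.symm, po.symm, qo.symm, ro.symm, ap', aq', ar, pq', pr, qr]
  · fin_cases i
    · exact (mem_supp.1 (mb j)).1.symm
    · exact hab j
    · exact fun h => p0 (by rw [show p' = b j from h, hwb])
    · exact fun h => q0 (by rw [show q' = b j from h, hwb])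
    · exact fun h => r0 (by rw [show r = b j from h, ← hve, hea])
  · rw [eq_sum_pt (o := o) (v j) hx, hb, Finset.sum_pair (hab j), hv j j.2.1, hva, hvb, pt_neg]
    ring
  · obtain ⟨bo, bS, -⟩ := mem_supp.1 (mb j)
    have h2 := hvF₁ j
    have h3 := hvF j
    have h4 := hz _ bS
    rw [hsum j, F1o, F1a] at h2
    rw [hsum j, hFo, Fa] at h3
    rcases hδ₁ with h | h <;> rw [h] at h2 h3 ⊢
    · rw [show F₁ (b j) = 2 * sg j by omega, show F₂ (b j) = 0 by omega] at h4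
      linarith
    · rw [show F₁ (b j) = -2 * sg j by omega, show F₂ (b j) = 0 by omega] at h4
      linarith

set_option maxHeartbeats 800000 in
theorem wr_shape {J Θ₁ Θ₂ : Type*} [DecidableEq J] [Fintype Θ₁] [DecidableEq Θ₁] [Fintype Θ₂]
    [DecidableEq Θ₂] (ho : o ∈ S) {j₁ j₂ j₃ : J} (n12 : j₁ ≠ j₂) (n13 : j₁ ≠ j₃)
    (n23 : j₂ ≠ j₃) {R₁ R₂ : J → I → ℤ} {s : J → ℤ} {jp jm : J} (hjp : s jp = 1)
    (hjm : s jm = -1) {d zv F₁ F₂ g : I → ℤ} {Q : ℤ} (hQ1 : Q ≠ 1) (hQ2 : Q ≠ -1)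
    (hdo : d o = 1) (hd : ∀ x, 0 < d x) (hzo : zv o = 1)
    (r1o : ∀ j, R₁ j o = 1) (r2o : ∀ j, R₂ j o = 1)
    (hpar : ∀ j, ∀ x ∈ S, Even (R₁ j x + R₂ j x))
    (r11 : ∀ j k, ∑ x ∈ S, R₁ j x * R₁ k x = if j = k then 8 else 6)
    (r22 : ∀ j k, ∑ x ∈ S, R₂ j x * R₂ k x = if j = k then 4 else 2)
    (r12 : ∀ j k, ∑ x ∈ S, R₁ j x * R₂ k x = 0)
    (r1d : ∀ j, ∑ x ∈ S, R₁ j x * d x = 0) (r2d : ∀ j, ∑ x ∈ S, R₂ j x * d x = 0)
    (r1F₁ : ∀ j, ∑ x ∈ S, R₁ j x * F₁ x = 4 * (1 - s j))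
    (r2F₁ : ∀ j, ∑ x ∈ S, R₂ j x * F₁ x = 0)
    (r1F₂ : ∀ j, ∑ x ∈ S, R₁ j x * F₂ x = 0) (r2F₂ : ∀ j, ∑ x ∈ S, R₂ j x * F₂ x = 0)
    (hg : Gen S o R₁ R₂ g) (gd : ∑ x ∈ S, g x * d x = 0) (gF₁ : ∑ x ∈ S, g x * F₁ x = 0)
    (gF₂ : ∑ x ∈ S, g x * F₂ x = 4)
    {t₁ : Θ₁} {v₁ : Θ₁ → I → ℤ} {s₁ : Θ₁ → ℤ} (hs₁ : ∑ θ, s₁ θ = 0) (hs₁' : s₁ t₁ = 1)
    (hv₁ : ∀ x, v₁ t₁ x = 0) (hF₁ : ∀ x ∈ S, F₁ x = -∑ θ, v₁ θ x * s₁ θ)
    (hv₁' : ∀ θ, θ ≠ t₁ → (∃ j, v₁ θ = R₁ j) ∨ (v₁ θ o = 1 ∧ ∑ x ∈ S, v₁ θ x * v₁ θ x ≤ 8 ∧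
      ∑ x ∈ S, g x * v₁ θ x = 0 ∧
      ∀ j, ∑ x ∈ S, R₁ j x * v₁ θ x = 6 ∧ ∑ x ∈ S, R₂ j x * v₁ θ x = 0))
    {t₂ : Θ₂} {v₂ : Θ₂ → I → ℤ} {s₂ : Θ₂ → ℤ} (hs₂ : ∑ θ, s₂ θ = 0) (hs₂' : s₂ t₂ = 1)
    (hv₂ : ∀ x, v₂ t₂ x = 0) (hF₂ : ∀ x ∈ S, F₂ x = -∑ θ, v₂ θ x * s₂ θ)
    (hv₂' : ∀ θ, θ ≠ t₂ → (∃ j, v₂ θ = R₂ j) ∨ Gen S o R₁ R₂ (v₂ θ))
    (F1o : F₁ o = 1) (F2o : F₂ o = 1)
    (hz : ∀ x ∈ S, 2 * zv x = (Q + 1) * F₁ x + (1 - Q) * F₂ x)
    (hP1 : ∀ j, ∑ x ∈ S, (zv x : ℚ) ^ 2 / d x * R₂ j x = 0) :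
    ∃ (th u : I) (tp tq : J → I) (δt δu : ℤ) (δp δq : J → ℤ),
      th ∈ S ∧ u ∈ S ∧ (∀ j, tp j ∈ S) ∧ (∀ j, tq j ∈ S) ∧ (δt = 1 ∨ δt = -1) ∧
      (δu = 1 ∨ δu = -1) ∧ (∀ j, δp j = 1 ∨ δp j = -1) ∧ (∀ j, δq j = 1 ∨ δq j = -1) ∧
      Function.Injective (Sum.elim ![o, th, u] (Sum.elim tp tq)) ∧
      (∀ j, ∀ x ∈ S, R₁ j x + R₂ j x = 2 * (pt o 1 x + pt th δt x - pt (tp j) (δp j) x)) ∧
      (∀ j, ∀ x ∈ S, R₁ j x - R₂ j x = 2 * (pt th δt x + pt u δu x - pt (tq j) (δq j) x)) ∧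
      δt * d th = Q ^ 2 + Q ∧ δu * d u = Q ^ 3 ∧ δt * zv th = Q + 1 ∧ δu * zv u = Q ∧
      ∀ j, δp j * zv (tp j) = 1 + (Q + 1) * s j ∧ δq j * zv (tq j) = Q + (Q + 1) * s j := by
  obtain ⟨e₁, he₁⟩ : ∃ e : J → I → ℤ, ∀ j, ∀ x ∈ S, R₁ j x + R₂ j x = 2 * e j x :=
    ⟨fun j x => (R₁ j x + R₂ j x) / 2, fun j x hx => by
      obtain ⟨m, hm⟩ := hpar j x hx
      simp only
      omega⟩
  obtain ⟨e₂, he₂⟩ : ∃ e : J → I → ℤ, ∀ j, ∀ x ∈ S, R₁ j x - R₂ j x = 2 * e j x :=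
    ⟨fun j x => e₁ j x - R₂ j x, fun j x hx => by linear_combination he₁ j x hx⟩
  have s1 : ∀ j (f : I → ℤ), 2 * ∑ x ∈ S, e₁ j x * f x =
      ∑ x ∈ S, R₁ j x * f x + ∑ x ∈ S, R₂ j x * f x := fun j f => by
    rw [Finset.mul_sum, ← Finset.sum_add_distrib]
    exact Finset.sum_congr rfl fun x hx => by linear_combination (-f x) * he₁ j x hx
  have s2 : ∀ j (f : I → ℤ), 2 * ∑ x ∈ S, e₂ j x * f x =
      ∑ x ∈ S, R₁ j x * f x - ∑ x ∈ S, R₂ j x * f x := fun j f => by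
    rw [Finset.mul_sum, ← Finset.sum_sub_distrib]
    exact Finset.sum_congr rfl fun x hx => by linear_combination (-f x) * he₂ j x hx
  have cm : ∀ u w : I → ℤ, ∑ x ∈ S, u x * w x = ∑ x ∈ S, w x * u x := fun u w =>
    Finset.sum_congr rfl fun _ _ => mul_comm _ _
  have e1o : ∀ j, e₁ j o = 1 := fun j => by have := he₁ j o ho; rw [r1o, r2o] at this; omega
  have e2o : ∀ j, e₂ j o = 0 := fun j => by have := he₂ j o ho; rw [r1o, r2o] at this; omega
  have e11 : ∀ j k, ∑ x ∈ S, e₁ j x * e₁ k x = if j = k then 3 else 2 := fun j k => by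
    have h1 := s1 j (e₁ k)
    have h2 := s1 k (R₁ j)
    have h3 := s1 k (R₂ j)
    rw [cm (R₁ k), cm (R₂ k), cm (e₁ k), r11, r12] at h2
    rw [cm (R₂ k), cm (e₁ k), r22, r12] at h3
    split_ifs at * <;> omega
  have e22 : ∀ j k, ∑ x ∈ S, e₂ j x * e₂ k x = if j = k then 3 else 2 := fun j k => by
    have h1 := s2 j (e₂ k)
    have h2 := s2 k (R₁ j)
    have h3 := s2 k (R₂ j)
    rw [cm (R₁ k), cm (R₂ k), cm (e₂ k), r11, r12] at h2
    rw [cm (R₂ k), cm (e₂ k), r22, r12] at h3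
    split_ifs at * <;> omega
  have e12 : ∀ j k, ∑ x ∈ S, e₁ j x * e₂ k x = 1 := fun j k => by
    have h1 := s1 j (e₂ k)
    have h2 := s2 k (R₁ j)
    have h3 := s2 k (R₂ j)
    rw [cm (R₁ k), cm (R₂ k), cm (e₂ k), r11, r12] at h2
    rw [cm (R₂ k), cm (e₂ k), r22, r12] at h3
    split_ifs at * <;> omega
  have ge : ∀ g, Gen S o R₁ R₂ g → ∀ j, ∑ x ∈ S, e₁ j x * g x = 1 ∧
      ∑ x ∈ S, e₂ j x * g x = -1 := fun g hg j => by
    have h1 := s1 j g
    have h2 := s2 j g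
    rw [cm (R₁ j), cm (R₂ j), (hg.2.2 j).1, (hg.2.2 j).2] at h1 h2
    omega
  obtain ⟨th, hth, δt, tp, δp, hδt, htp, tp_th, hδp, tpi, E1⟩ := star (S := S) n12
    (u := fun j x => e₁ j x - pt o 1 x) (f := d)
    (fun j k => by rw [sum_sub_pt ho, e11, e1o, e1o]; split_ifs <;> rfl)
    (fun j => by
      have := s1 j d
      simp only [sub_mul, Finset.sum_sub_distrib, sum_pt ho]
      rw [r1d, r2d] at this
      exact ⟨-1, by omega⟩)
  have th_o : th ≠ o := by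
    rintro rfl
    have := E1 j₁ th hth
    rw [e1o, pt_ne (tp_th j₁).symm] at this
    simp only [pt_self] at this
    omega
  have tp_o : ∀ j, tp j ≠ o := fun j h => by
    have := E1 j o ho
    rw [e1o, pt_ne th_o.symm, ← h] at this
    simp only [pt_self] at this
    have := hδp j
    omega
  have S1 : ∀ j (f : I → ℤ), ∑ x ∈ S, e₁ j x * f x = f o + δt * f th + δp j * f (tp j) :=
    fun j f => by
      have := sum_two hth (htp j) (E1 j) f
      simp only [sub_mul, Finset.sum_sub_distrib, sum_pt ho] at this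
      linear_combination this
  have tp12 : tp j₁ ≠ tp j₂ := fun h => n12 (tpi _ _ h)
  have tp13 : tp j₁ ≠ tp j₃ := fun h => n13 (tpi _ _ h)
  have tp23 : tp j₂ ≠ tp j₃ := fun h => n23 (tpi _ _ h)
  have sq1 : ∀ {δ a b : ℤ}, δ = 1 ∨ δ = -1 → δ * a = b → a * a = b * b := by
    rintro δ a _ (rfl | rfl) rfl <;> ring
  have e2th : ∀ j, e₂ j th = δt := fun j => by
    have h3 : ∑ x ∈ S, e₂ j x * e₂ j x = 3 := by simpa using e22 j j
    have h4 : ∀ k, δt * e₂ j th + δp k * e₂ j (tp k) = 1 := fun k => by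
      have := e12 k j
      rwa [S1, e2o, zero_add] at this
    by_contra h0
    have h5 : ∀ k, e₂ j (tp k) = δp k := fun k => by
      have := h4 k
      rcases abs_le_one h3.le hth with e1 | e1 | e1 <;>
        rcases abs_le_one h3.le (htp k) with e2 | e2 | e2 <;>
        rcases hδt with rfl | rfl <;> rcases hδp k with e | e <;> rw [e] at this ⊢ <;> omega
    have h6 : e₂ j th = 0 := by
      have := h4 j₁
      rw [h5] at this
      rcases hδt with rfl | rfl <;> rcases hδp j₁ with e | e <;> rw [e] at this <;> omega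
    obtain ⟨b, hb, n1, δ, hδ, r⟩ := norm_two_at (S := S)
      (u := fun x => e₂ j x - pt (tp j₁) (δp j₁) x) (by
        rw [sum_sub_pt (htp j₁), h3, h5]
        rcases hδp j₁ with e | e <;> simp [e]) (htp j₂) (hδp j₂) (by
        simp only [h5, pt_ne tp12.symm, sub_zero])
    have r3 := r _ (htp j₃)
    rw [h5, pt_ne tp13.symm, pt_ne tp23.symm] at r3
    obtain rfl : tp j₃ = b := by
      by_contra h
      rw [pt_ne h] at r3
      have := hδp j₃
      omega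
    have h7 := sum_two (htp j₂) (htp j₃) r g
    simp only [sub_mul, Finset.sum_sub_distrib, sum_pt (htp j₁), (ge g hg j).2] at h7
    have k1 := (ge g hg j₁).1
    have k2 := (ge g hg j₂).1
    have k3 := (ge g hg j₃).1
    rw [S1, hg.1] at k1 k2 k3
    rw [pt_self] at r3
    rw [show δ = δp j₃ by omega] at h7
    omega
  have e2tp : ∀ j k, e₂ j (tp k) = 0 := fun j k => by
    have := e12 k j
    rw [S1, e2o, e2th] at this
    rcases hδt with rfl | rfl <;> rcases hδp k with e | e <;> rw [e] at this <;> omega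
  have gth : ∀ g, Gen S o R₁ R₂ g → g th = 0 ∧ ∀ j, g (tp j) = 0 := fun g hg => by
    have h1 : ∀ j, δp j * g (tp j) = -(δt * g th) := fun j => by
      have := (ge g hg j).1
      rw [S1, hg.1] at this
      omega
    have h2 := list_le_sum (S := S) (u := g) [o, th, tp j₁, tp j₂, tp j₃] (by
      simp [th_o.symm, (tp_o _).symm, (tp_th _).symm, tp12, tp13, tp23]) (by simp [ho, hth, htp])
    simp only [List.map, List.sum_cons, List.sum_nil, hg.1, hg.2.1, sq1 (hδp _) (h1 _)] at h2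
    have h3 : g th = 0 := by rcases hδt with rfl | rfl <;> nlinarith
    refine ⟨h3, fun j => ?_⟩
    have := h1 j
    rw [h3] at this
    rcases hδp j with e | e <;> rw [e] at this <;> omega
  obtain ⟨u, hu, δu, tq, δq, hδu, htq, tq_u, hδq, tqi, E2⟩ := star (S := S) n12
    (u := fun j x => e₂ j x - pt th δt x) (f := g)
    (fun j k => by
      rw [sum_sub_pt hth, e22, e2th, e2th]
      rcases hδt with rfl | rfl <;> split_ifs <;> rfl)
    (fun j => by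
      simp only [sub_mul, Finset.sum_sub_distrib, sum_pt hth, (ge g hg j).2, (gth g hg).1]
      exact ⟨-1, by omega⟩)
  have S2 : ∀ j (f : I → ℤ), ∑ x ∈ S, e₂ j x * f x = δt * f th + δu * f u + δq j * f (tq j) :=
    fun j f => by
      have := sum_two hu (htq j) (E2 j) f
      simp only [sub_mul, Finset.sum_sub_distrib, sum_pt hth] at this
      linear_combination this
  have nz : ∀ j x, x = u ∨ x = tq j → x ≠ th ∧ x ≠ o ∧ ∀ k, x ≠ tp k := fun j x hx => by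
    have h1 : e₂ j x - pt th δt x ≠ 0 := by
      rcases hx with rfl | rfl
      · rw [E2 j x hu, pt_self, pt_ne (tq_u j).symm]; omega
      · rw [E2 j _ (htq j), pt_self, pt_ne (tq_u j)]; have := hδq j; omega
    refine ⟨?_, ?_, fun k => ?_⟩ <;> rintro rfl
    · exact h1 (by rw [e2th, pt_self, sub_self])
    · exact h1 (by rw [e2o, pt_ne th_o.symm, sub_self])
    · exact h1 (by rw [e2tp, pt_ne (tp_th k), sub_self])
  obtain ⟨u_th, u_o, u_tp⟩ := nz j₁ u (Or.inl rfl)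
  have tq_th := fun j => (nz j _ (Or.inr rfl)).1
  have tq_o := fun j => (nz j _ (Or.inr rfl)).2.1
  have tq_tp := fun j => (nz j _ (Or.inr rfl)).2.2
  have tq12 : tq j₁ ≠ tq j₂ := fun h => n12 (tqi _ _ h)
  have tq13 : tq j₁ ≠ tq j₃ := fun h => n13 (tqi _ _ h)
  have tq23 : tq j₂ ≠ tq j₃ := fun h => n23 (tqi _ _ h)
  have gu : ∀ g, Gen S o R₁ R₂ g → g u = -δu ∧ ∀ j, g (tq j) = 0 := fun g hg => by
    have h1 : ∀ j, δq j * g (tq j) = -1 - δu * g u := fun j => by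
      have := (ge g hg j).2
      rw [S2, (gth g hg).1] at this
      omega
    have h2 := list_le_sum (S := S) (u := g) [o, u, tq j₁, tq j₂, tq j₃] (by
      simp [u_o.symm, (tq_o _).symm, (tq_u _).symm, tq12, tq13, tq23]) (by simp [ho, hu, htq])
    simp only [List.map, List.sum_cons, List.sum_nil, hg.1, hg.2.1, sq1 (hδq _) (h1 _)] at h2
    have h3 : g u = -δu := by
      rcases abs_le_one hg.2.1.le hu with e | e | e <;> rw [e] at h2 ⊢ <;>
        rcases hδu with rfl | rfl <;> omega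
    refine ⟨h3, fun j => ?_⟩
    have := h1 j
    rw [h3] at this
    rcases hδu with rfl | rfl <;> rcases hδq j with e | e <;> rw [e] at this <;> omega
  obtain ⟨v, hv, v_u, δv, hδv, E3⟩ := norm_two_at (S := S) (u := fun x => g x - pt o 1 x)
    (by rw [sum_sub_pt ho, hg.2.1, hg.1]; rfl) hu (δ := -δu) (by omega)
    (by simp only [(gu g hg).1, pt_ne u_o, sub_zero])
  have S3 : ∀ f : I → ℤ, ∑ x ∈ S, g x * f x = f o - δu * f u + δv * f v := fun f => by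
    have := sum_two hu hv E3 f
    simp only [sub_mul, Finset.sum_sub_distrib, sum_pt ho] at this
    linear_combination this
  have gv := E3 v hv
  rw [pt_ne v_u, pt_self] at gv
  have v_o : v ≠ o := by
    rintro rfl
    rw [hg.1, pt_self] at gv
    omega
  rw [pt_ne v_o] at gv
  have v_th : v ≠ th := fun h => by rw [h, (gth g hg).1] at gv; omega
  have v_tp : ∀ j, v ≠ tp j := fun j h => by rw [h, (gth g hg).2] at gv; omega
  have v_tq : ∀ j, v ≠ tq j := fun j h => by rw [h, (gu g hg).2] at gv; omega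
  have val : ∀ j, e₁ j th = δt ∧ e₁ j u = 0 ∧ e₂ j u = δu := fun j => by
    have h1 := E1 j th hth
    have h2 := E1 j u hu
    have h3 := E2 j u hu
    rw [pt_ne th_o, pt_self, pt_ne (tp_th j).symm] at h1
    rw [pt_ne u_o, pt_ne u_th, pt_ne (u_tp j)] at h2
    rw [pt_ne u_th, pt_self, pt_ne (tq_u j).symm] at h3
    omega
  have hh : ∀ θ, θ ≠ t₁ → v₁ θ th = 2 * δt ∧ v₁ θ u = δu := fun θ hθ => by
    rcases hv₁' θ hθ with ⟨j, e⟩ | ⟨h1, h2, h3, h4⟩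
    · have a1 := he₁ j th hth
      have a2 := he₂ j th hth
      have a3 := he₁ j u hu
      have a4 := he₂ j u hu
      have := val j
      have := e2th j
      rw [e]
      omega
    have k1 : ∀ j, δp j * v₁ θ (tp j) = 2 - δt * v₁ θ th := fun j => by
      have := s1 j (v₁ θ)
      rw [(h4 j).1, (h4 j).2, S1, h1] at this
      omega
    have k2 : ∀ j, δq j * v₁ θ (tq j) = 3 - δt * v₁ θ th - δu * v₁ θ u := fun j => by
      have := s2 j (v₁ θ)
      rw [(h4 j).1, (h4 j).2, S2] at this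
      omega
    have k3 : δv * v₁ θ v = δu * v₁ θ u - 1 := by
      rw [S3, h1] at h3
      omega
    have k4 := list_le_sum (S := S) (u := v₁ θ)
      [o, th, u, v, tp j₁, tp j₂, tp j₃, tq j₁, tq j₂, tq j₃] (by
        simp [th_o.symm, u_o.symm, v_o.symm, (tp_o _).symm, (tq_o _).symm, u_th.symm, v_th.symm,
          (tp_th _).symm, (tq_th _).symm, v_u.symm, u_tp, (tq_u _).symm, v_tp, v_tq, tp12, tp13,
          tp23, (tq_tp _ _).symm, tq12, tq13, tq23]) (by simp [ho, hth, hu, hv, htp, htq])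
    simp only [List.map, List.sum_cons, List.sum_nil, h1, sq1 (hδp _) (k1 _), sq1 (hδq _) (k2 _),
      sq1 hδv k3] at k4
    rw [sq1 hδt (rfl : δt * v₁ θ th = _), sq1 hδu (rfl : δu * v₁ θ u = _)] at k4
    have k5 : δt * v₁ θ th = 2 ∧ δu * v₁ θ u = 1 := by
      generalize δt * v₁ θ th = a at k4
      generalize δu * v₁ θ u = b at k4
      have a1 : a ≤ 2 := by nlinarith [sq_nonneg b, sq_nonneg (b - 1), sq_nonneg (3 - a - b)]
      have a2 : 1 ≤ a := by nlinarith [sq_nonneg b, sq_nonneg (b - 1), sq_nonneg (3 - a - b)]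
      have b1 : b ≤ 2 := by nlinarith [sq_nonneg a, sq_nonneg (2 - a), sq_nonneg (3 - a - b)]
      have b2 : -1 ≤ b := by nlinarith [sq_nonneg a, sq_nonneg (2 - a), sq_nonneg (3 - a - b)]
      interval_cases a <;> interval_cases b <;> omega
    rcases hδt with rfl | rfl <;> rcases hδu with rfl | rfl <;> omega
  have hh2 : ∀ θ, θ ≠ t₂ → v₂ θ th = 0 ∧ v₂ θ u = -δu := fun θ hθ => by
    rcases hv₂' θ hθ with ⟨j, e⟩ | h
    · have a1 := he₁ j th hth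
      have a2 := he₂ j th hth
      have a3 := he₁ j u hu
      have a4 := he₂ j u hu
      have := val j
      have := e2th j
      rw [e]
      omega
    · exact ⟨(gth _ h).1, (gu _ h).1⟩
  have F1th : F₁ th = 2 * δt := by
    rw [hF₁ th hth, neg_sum_const hs₁ hs₁' (hv₁ _) fun θ h => (hh θ h).1]
  have F1u : F₁ u = δu := by rw [hF₁ u hu, neg_sum_const hs₁ hs₁' (hv₁ _) fun θ h => (hh θ h).2]
  have F2th : F₂ th = 0 := by
    rw [hF₂ th hth, neg_sum_const hs₂ hs₂' (hv₂ _) fun θ h => (hh2 θ h).1]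
  have F2u : F₂ u = -δu := by rw [hF₂ u hu, neg_sum_const hs₂ hs₂' (hv₂ _) fun θ h => (hh2 θ h).2]
  have t2 : δt * δt = 1 := by rcases hδt with rfl | rfl <;> rfl
  have u2 : δu * δu = 1 := by rcases hδu with rfl | rfl <;> rfl
  have zval : ∀ x ∈ S, ∀ δ A B : ℤ, δ * F₁ x = A → δ * F₂ x = B →
      2 * (δ * zv x) = (Q + 1) * A + (1 - Q) * B := fun x hx δ A B h1 h2 => by
    linear_combination δ * hz x hx + (Q + 1) * h1 + (1 - Q) * h2
  have zth : δt * zv th = 1 + Q := by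
    have := zval th hth δt 2 0 (by rw [F1th]; linarith) (by rw [F2th, mul_zero])
    linarith
  have zu : δu * zv u = Q := by
    have := zval u hu δu 1 (-1) (by rw [F1u, u2]) (by rw [F2u]; linarith)
    linarith
  have zp : ∀ j, -δp j * zv (tp j) = 1 + (Q + 1) * s j := fun j => by
    have h1 := s1 j F₁
    have h2 := s1 j F₂
    rw [r1F₁, r2F₁, S1, F1o, F1th] at h1
    rw [r1F₂, r2F₂, S1, F2o, F2th] at h2
    have := zval _ (htp j) (-δp j) (1 + 2 * s j) 1 (by linarith) (by linarith)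
    linarith
  have dp : ∀ j, -δp j * d (tp j) = 1 + δt * d th := fun j => by
    have := s1 j d
    rw [r1d, r2d, S1, hdo] at this
    linarith
  have zq : ∀ j, -δq j * zv (tq j) = Q + (Q + 1) * s j := fun j => by
    have h1 := s2 j F₁
    have h2 := s2 j F₂
    rw [r1F₁, r2F₁, S2, F1u, F1th] at h1
    rw [r1F₂, r2F₂, S2, F2u, F2th] at h2
    have := zval _ (htq j) (-δq j) (1 + 2 * s j) (-1) (by linarith) (by linarith)
    linarith
  have dq : ∀ j, -δq j * d (tq j) = 1 + δt * d th - 1 + δu * d u := fun j => by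
    have := s2 j d
    rw [r1d, r2d, S2] at this
    linarith
  have ng : ∀ {δ : ℤ}, δ = 1 ∨ δ = -1 → -δ = 1 ∨ -δ = -1 := by omega
  have nz0 : ∀ {δ D : ℤ} {x : I}, δ = 1 ∨ δ = -1 → δ * d x = D → D ≠ 0 := by
    rintro δ _ x h rfl
    have := hd x
    rcases h with rfl | rfl <;> omega
  have P : ∀ j, 1 - ((1 + (Q + 1) * s j : ℤ) : ℚ) ^ 2 / (1 + δt * d th : ℤ) -
      (Q : ℚ) ^ 2 / (δu * d u : ℤ) +
      ((Q + (Q + 1) * s j : ℤ) : ℚ) ^ 2 / (1 + δt * d th - 1 + δu * d u : ℤ) = 0 := fun j => by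
    have h1 : ∀ x ∈ S, (R₂ j x : ℚ) = pt o 1 x - pt (tp j) (-δp j) x - pt u δu x +
        pt (tq j) (-δq j) x := fun x hx => by
      have a1 := he₁ j x hx
      have a2 := he₂ j x hx
      have a3 := E1 j x hx
      have a4 := E2 j x hx
      have a5 : ∀ a δ, pt a (-δ) x = -pt a δ x := fun a δ => by unfold pt; split_ifs <;> simp
      rw [a5, a5]
      exact_mod_cast (by omega)
    rw [← hP1 j, Finset.sum_congr rfl fun x hx => by rw [h1 x hx]]
    simp only [mul_add, mul_sub, Finset.sum_add_distrib, Finset.sum_sub_distrib, sum_pt_rat ho,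
      sum_pt_rat (htp j), sum_pt_rat hu, sum_pt_rat (htq j), sgn_rat (ng (hδp j)) (dp j) (zp j),
      sgn_rat hδu rfl zu, sgn_rat (ng (hδq j)) (dq j) (zq j), hdo, hzo]
    simp
  have P1 := P jp
  have P2 := P jm
  rw [hjp, show 1 + (Q + 1) * 1 = Q + 2 by ring, show Q + (Q + 1) * 1 = 2 * Q + 1 by ring] at P1
  rw [hjm, show 1 + (Q + 1) * -1 = -Q by ring, show Q + (Q + 1) * -1 = -1 by ring] at P2
  obtain ⟨hX, hU⟩ := wr_arith hQ1 hQ2 (nz0 (ng (hδp jp)) (dp jp)) (nz0 (ng (hδq jp)) (dq jp))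
    (nz0 hδu rfl) rfl P1 P2
  refine ⟨th, u, tp, tq, δt, δu, fun j => -δp j, fun j => -δq j, hth, hu, htp, htq, hδt, hδu,
    fun j => ng (hδp j), fun j => ng (hδq j), ?_, fun j x hx => ?_, fun j x hx => ?_,
    by linarith, hU, by linarith, zu, fun j => ⟨zp j, zq j⟩⟩
  · refine Function.Injective.sumElim ?_ (Function.Injective.sumElim tpi tqi
      fun a b => (tq_tp b a).symm) ?_
    · rw [← List.nodup_ofFn]
      simp [th_o.symm, u_o.symm, u_th.symm]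
    · rintro i (j | j) <;> fin_cases i
      exacts [(tp_o j).symm, (tp_th j).symm, u_tp j, (tq_o j).symm, (tq_th j).symm, (tq_u j).symm]
  · rw [pt_neg]
    linear_combination he₁ j x hx + 2 * E1 j x hx
  · rw [pt_neg]
    linear_combination he₂ j x hx + 2 * E2 j x hx

end Cfsg.Agent.ABG
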