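import Mathlib
import Cfsg.Agent.Inv.QGroup
import Cfsg.Agent.Inv.ZStarElem

/-! The properties of a semidihedral or wreathed Sylow 2-subgroup of an involution centralizer used
in the easy end. -/

set_option autoImplicit false
set_option linter.unusedSectionVars false

namespace Cfsg.Agent.ABG.Ez

open Subgroup Cfsg Cfsg.Agent.Inv
open scoped commutatorElement

/-- `z` central involution, `a` another one, `x` a root of `a`, `w` swaps `a` and `z * a`. -/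
structure Syl {C : Type*} [Group C] (S : Subgroup C) (z a x w : C) (κ : ℕ) : Prop where
  hz : orderOf z = 2
  zc : ∀ c, c * z = z * c
  zS : z ∈ S
  ha : orderOf a = 2
  az : a ≠ z
  xS : x ∈ S
  xa : x ^ 2 ^ κ = a
  wS : w ∈ S
  wC : w ∈ commutator C
  wa : w * a * w⁻¹ = z * a
  cyc : ∃ (ρ s : C) (T : Subgroup C), (∀ c, c * s = s * c) ∧ T ≤ zpowers ρ ⊔ zpowers s ∧
    (∃ σ ∈ S, σ ∉ T) ∧ (∀ g ∈ S, g ∉ T → g * g ∈ zpowers s) ∧
    ∀ g ∈ S, ∀ h ∈ S, g ∉ T → h ∉ T → g * h ∈ T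
  z2 : ∀ k ∈ S, (∀ g ∈ S, ⁅k, g⁆ * ⁅k, g⁆ = 1) → k ^ 2 ^ κ ∈ commutator C
  three : ∃ c, c * a * c⁻¹ ∈ S ∧ c * a * c⁻¹ ≠ a ∧ c * a * c⁻¹ ≠ z * a
  cls : ∀ t, orderOf t = 2 → t = z ∨ IsConj a t
  gen : S ≤ zpowers x ⊔ commutator C
  aut : IsPGroup 2 (MulAut S)
  cent : ∀ s ∈ S, ∀ o ∈ oddCore C, s * o = o * s

variable {C : Type*} [Group C] [Finite C] {S : Sylow 2 C} {k : ℕ}

omit [Finite C] in
theorem eq_of_isConj_central {z t : C} (zc : ∀ c, c * z = z * c) (h : IsConj t z) : t = z := by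
  obtain ⟨c, rfl⟩ := isConj_iff.1 h.symm
  rw [zc, mul_inv_cancel_right]

theorem syl_of_QDC (c : QDC (S : Subgroup C) k)
    (zc : ∀ g, g * c.r (2 ^ (k + 2)) = c.r (2 ^ (k + 2)) * g)
    (h : IsConj (c.r (2 ^ (k + 1))) (c.s 1))
    (hO : ∀ s ∈ (S : Subgroup C), ∀ o ∈ oddCore C, s * o = o * s) :
    Syl (S : Subgroup C) (c.r (2 ^ (k + 2))) (c.s 0) (c.s 0) (c.r (2 ^ (k + 1))) 0 := by
  have hh := QDC.h_mul_two (k := k)
  have h4 := QDC.four_ne_zero' (k := k)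
  have fo := focalSubgroup_le_commutator (S : Subgroup C)
  have ev : ∀ b, c.r (2 * b) ∈ commutator C := fun b => fo (c.r_even_mem_focal b)
  have hs : ∀ g ∈ (S : Subgroup C), g ∉ zpowers (c.r 1) → ∃ i, g = c.s i := fun g hg h =>
    (c.cases hg).resolve_left (mt c.mem_zpowers_r_one.2 h)
  refine ⟨c.orderOf_z, zc, c.r_mem _, c.orderOf_s_zero, c.s_ne_r _ _, c.s_mem _, by simp,
    c.r_mem _, by simpa only [← pow_succ'] using ev (2 ^ k), ?_,
    ⟨c.r 1, c.r (2 ^ (k + 2)), zpowers (c.r 1), zc, le_sup_left,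
      ⟨c.s 0, c.s_mem _, by simp [c.mem_zpowers_r_one]⟩, fun g hg h => ?_, fun g hg g' hg' h h' => ?_⟩,
    fun g hg h => ?_, ⟨c.r 1, by simp, ?_, ?_⟩, fun t ht => ?_, ?_, ?_, hO⟩
  · simp only [CycExt.r_mul_s, CycExt.r_inv, CycExt.s_mul_r, CycExt.s_inj]
    linear_combination (-2 ^ k) * hh
  · obtain ⟨i, rfl⟩ := hs g hg h
    rw [c.s_mul_s, c.r_mem_zpowers_r]
    exact ⟨i, by ring⟩
  · obtain ⟨i, rfl⟩ := hs g hg h
    obtain ⟨j, rfl⟩ := hs g' hg' h'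
    exact c.mem_zpowers_r_one.2 ⟨_, c.s_mul_s _ _⟩
  · rw [pow_zero, pow_one]
    rcases c.cases hg with ⟨i, rfl⟩ | ⟨i, rfl⟩
    · rcases Z2.even_or_odd i with ⟨b, rfl⟩ | ⟨b, rfl⟩
      · exact ev b
      · have h1 := h _ (c.s_mem 0)
        rw [commutatorElement_def, c.r_conj_s, c.s_mul_s_inv, c.r_mul_r, c.r_eq_one] at h1
        obtain ⟨u, hu⟩ := Z2.exists_odd_mul_eq_one b
        exact absurd (by linear_combination u * h1 - 4 * hu + u * (2 * b + 1) * hh) h4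
    · have h1 := h _ (c.r_mem 1)
      rw [commutatorElement_def, c.s_conj_r, c.r_inv, c.r_mul_r, c.r_mul_r, c.r_eq_one] at h1
      exact absurd (by linear_combination hh - h1) h4
  · simp only [CycExt.r_mul_s, CycExt.r_inv, CycExt.s_mul_r, Ne, CycExt.s_inj]
    exact fun e => h4 (by linear_combination 2 * e + hh)
  · simp only [CycExt.r_mul_s, CycExt.r_inv, CycExt.s_mul_r, Ne, CycExt.s_inj]
    exact fun e => h4 (by linear_combination 2 * e + 2 * hh)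
  · exact (c.isConj_of_orderOf_two ht).imp (eq_of_isConj_central zc) IsConj.symm
  · have h1 : c.r 1 ∈ zpowers (c.s 0) ⊔ commutator C := by
      have := mul_mem (mem_sup_right (S := zpowers (c.s 0)) (fo (c.s_one_mem_focal h)))
        (mem_sup_left (T := commutator C) (mem_zpowers (c.s 0)))
      simpa using this
    have h2 : ∀ i, c.r i ∈ zpowers (c.s 0) ⊔ commutator C := fun i =>
      zpowers_le.2 h1 (c.mem_zpowers_r_one.2 ⟨i, rfl⟩)
    intro g hg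
    rcases c.cases hg with ⟨i, rfl⟩ | ⟨i, rfl⟩
    · exact h2 i
    · simpa using mul_mem (h2 i) (mem_sup_left (T := commutator C) (mem_zpowers (c.s 0)))
  · by_contra hA
    have key : ∀ j a, c.r 1 ∉ closure {c.r (2 ^ (j + 1)), c.s a} := fun j a h =>
      c.r_one_notMem_closure_two a ((closure_le _).2 (by
        rintro g (rfl | rfl)
        · have := pow_mem (subset_closure (k := {c.r 2, c.s a}) (Or.inl rfl)) (2 ^ j)
          simpa [pow_succ] using this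
        · exact subset_closure (by simp)) h)
    rcases c.eq_T_or_eq_Q le_rfl hA with ⟨b, e⟩ | ⟨b, e⟩
    · exact key _ _ (e.le (c.r_mem 1))
    · exact key _ _ (e.le (c.r_mem 1))

theorem syl_of_WrC (c : WrC (S : Subgroup C) (2 ^ (k + 2)))
    (zc : ∀ g, g * c.u (2 ^ (k + 1)) (2 ^ (k + 1)) = c.u (2 ^ (k + 1)) (2 ^ (k + 1)) * g)
    (h : IsConj (c.u (2 ^ (k + 1)) 0) (c.v 0 0))
    (hO : ∀ s ∈ (S : Subgroup C), ∀ o ∈ oddCore C, s * o = o * s) :
    Syl (S : Subgroup C) (c.u (2 ^ (k + 1)) (2 ^ (k + 1))) (c.u (2 ^ (k + 1)) 0) (c.u 1 0)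
      (c.v (2 ^ (k + 1)) 0) (k + 1) := by
  have hh := WrC.h_mul_two (k := k)
  have h0 := WrC.h_ne_zero (k := k)
  have h2 : (2 : ZMod (2 ^ (k + 2))) ≠ 0 := fun e => h0 (by linear_combination 2 ^ k * e)
  have fo := focalSubgroup_le_commutator (S : Subgroup C)
  have hn : ¬ IsConj (c.u (2 ^ (k + 1)) 0) (c.u (2 ^ (k + 1)) (2 ^ (k + 1))) := fun e => by
    have := eq_of_isConj_central zc e
    rw [c.u_inj] at this
    exact h0 this.2.symm
  have hv : ∀ g ∈ (S : Subgroup C), g ∉ c.U → ∃ i j, g = c.v i j := fun g hg h =>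
    (c.cases hg).resolve_left (mt c.mem_U.2 h)
  obtain ⟨d, hd⟩ := isConj_iff.1 h
  refine ⟨c.orderOf_hh, zc, c.u_mem _ _, c.orderOf_h0, fun e => hn (e ▸ IsConj.refl _), c.u_mem _ _,
    by simp,
    c.v_mem _ _, fo (c.Y_le_focal h (c.mem_Y.2 (Or.inr ⟨_, _, add_zero _, rfl⟩))), ?_,
    ⟨c.u 1 0, c.u 1 1, c.U, fun g => ?_, fun g hg => ?_,
      ⟨c.v 0 0, c.v_mem _ _, c.v_notMem_U _ _⟩, fun g hg h => ?_, fun g hg g' hg' h h' => ?_⟩,
    fun g hg h => ?_, ⟨d, by simp [hd], by simp [hd], by simp [hd]⟩, fun t ht => ?_,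
    c.le_zpowers_sup_Y.trans (sup_le_sup_left ((c.Y_le_focal h).trans fo) _), ?_, hO⟩
  · rw [c.v_conj_u, c.u_mul_u, c.u_inj]
    exact ⟨by linear_combination -hh, by ring⟩
  · obtain ⟨o, ho, d, hd, rfl⟩ := exists_oddCore_mul_of_isIsolated (c.isIsolated_diag hn 1)
      ⟨k + 2, by simp⟩ g
    rw [mul_assoc, mem_centralizer_singleton_iff.1 hd, ← mul_assoc, ← hO _ (c.u_mem 1 1) o ho,
      mul_assoc]
  · obtain ⟨i, j, rfl⟩ := c.mem_U.1 hg
    have : c.u i j = c.u ((i - j) * 1) ((i - j) * 0) * c.u j j := by simp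
    rw [this]
    exact mul_mem_sup (c.mem_zpowers_u.2 ⟨_, rfl⟩) (c.mem_zpowers_diag.2 ⟨_, rfl⟩)
  · obtain ⟨i, j, rfl⟩ := hv g hg h
    exact c.mem_zpowers_diag.2 ⟨_, c.v_sq i j⟩
  · obtain ⟨i, j, rfl⟩ := hv g hg h
    obtain ⟨i', j', rfl⟩ := hv g' hg' h'
    simp
  · rcases c.cases hg with ⟨i, j, rfl⟩ | ⟨i, j, rfl⟩
    · have h1 := h _ (c.v_mem 0 0)
      simp only [commutatorElement_def, WrC.u_mul_v, WrC.u_inv, WrC.v_mul_u, WrC.v_inv,
        WrC.v_mul_v, WrC.u_mul_u, WrC.u_eq_one] at h1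
      have := fo (c.antidiag_mem_focal (2 ^ (k + 1) * i))
      rw [c.u_pow]
      push_cast
      convert this using 2
      linear_combination (-2 ^ k) * h1.1 + i * hh
    · have h1 := h _ (c.u_mem 1 0)
      rw [commutatorElement_def, c.v_conj_u, c.u_inv, c.u_mul_u, c.u_mul_u, c.u_eq_one] at h1
      exact absurd (by linear_combination h1.2) h2
  · rcases c.isConj_of_orderOf_two ht with e | e | e
    exacts [Or.inl (eq_of_isConj_central zc e), Or.inr e.symm, Or.inr (h.trans e.symm)]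
  · by_contra hA
    rcases c.eq_U_or_eq_V le_rfl inf_le_left hA with e | ⟨b, e⟩
    · exact c.v_notMem_U 0 0 (e.le (c.v_mem 0 0))
    · exact h2 (by simpa using c.u_mem_V.1 (e.le (c.u_mem 1 0)))

end Cfsg.Agent.ABG.Ez
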